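import Cfsg.Agent.H0.PG2
set_option maxRecDepth 100000
set_option Elab.async false
set_option linter.unusedSectionVars false
namespace H0.MU34
open H0 BN 
noncomputable def n0 : Net := (Net.cons (nat_lit 64) (nat_lit 0x100000000) (Net.cons (nat_lit 32) (nat_lit 0x100000000dba1bc12) (Net.cons (nat_lit 16) (nat_lit 0x62fc00004477) (Net.cons (nat_lit 8) (nat_lit 0x82008e00520032) (Net.cons (nat_lit 4) (nat_lit 0xd0f0908070d070d) (Net.cons (nat_lit 2) (nat_lit 0x2131100030012112) (Net.cons (nat_lit 1) (nat_lit 0x1114411444404104) (Net.cons (nat_lit 2) (nat_lit 0x222222022200000) (Net.cons (nat_lit 4) (nat_lit 0x602020808020802) (Net.cons (nat_lit 8) (nat_lit 0x8e008200320052) (Net.cons (nat_lit 16) (nat_lit 0x9c400000bb88) (Net.cons (nat_lit 32) (nat_lit 0xdba1bc12) (Net.cons (nat_lit 64) (nat_lit 0x100000000) Net.nil)))))))))))))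
noncomputable def n1 : Net := (Net.cons (nat_lit 64) (nat_lit 0x5000000000000) (Net.cons (nat_lit 32) (nat_lit 0x5000000000000b5164c98) (Net.cons (nat_lit 16) (nat_lit 0x10000b3aa0000be62) (Net.cons (nat_lit 8) (nat_lit 0xc00084007a00c9) (Net.cons (nat_lit 4) (nat_lit 0x60602040a0d0f0b) (Net.cons (nat_lit 2) (nat_lit 0x100002130301301031321) (Net.cons (nat_lit 1) (nat_lit 0x1050401414051555) (Net.cons (nat_lit 2) (nat_lit 0x2000200200002000) (Net.cons (nat_lit 4) (nat_lit 0xc02040c0c0204) (Net.cons (nat_lit 8) (nat_lit 0xc0000400f20070) (Net.cons (nat_lit 16) (nat_lit 0xb32a00003be2) (Net.cons (nat_lit 32) (nat_lit 0x50000000000007c96749c) (Net.cons (nat_lit 64) (nat_lit 0x5000000000000) Net.nil)))))))))))))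
noncomputable def n2 : Net := (Net.cons (nat_lit 64) (nat_lit 0x5000000000000) (Net.cons (nat_lit 32) (nat_lit 0x50000000000007cbe7d9c) (Net.cons (nat_lit 16) (nat_lit 0x50000b34e00001d4a) (Net.cons (nat_lit 8) (nat_lit 0x9000cc005600bb) (Net.cons (nat_lit 4) (nat_lit 0x20e0604030d0d0f) (Net.cons (nat_lit 2) (nat_lit 0x12122103130300231) (Net.cons (nat_lit 1) (nat_lit 0x1014104111541554) (Net.cons (nat_lit 2) (nat_lit 0x2022002020020000) (Net.cons (nat_lit 4) (nat_lit 0x4020400040802) (Net.cons (nat_lit 8) (nat_lit 0x20066007c) (Net.cons (nat_lit 16) (nat_lit 0x40000b7ac0000df3a) (Net.cons (nat_lit 32) (nat_lit 0x5000000000000b55e4098) (Net.cons (nat_lit 64) (nat_lit 0x5000000000000) Net.nil)))))))))))))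
noncomputable def n3 : Net := (Net.cons (nat_lit 64) (nat_lit 0x40000001000) (Net.cons (nat_lit 32) (nat_lit 0x40000000000e833313a) (Net.cons (nat_lit 16) (nat_lit 0xe5b10000adee) (Net.cons (nat_lit 8) (nat_lit 0x1400730016007100dc) (Net.cons (nat_lit 4) (nat_lit 0x503060b0a060b0004) (Net.cons (nat_lit 2) (nat_lit 0x103032000300313010) (Net.cons (nat_lit 1) (nat_lit 0x101154150410050) (Net.cons (nat_lit 2) (nat_lit 0x202000000200000) (Net.cons (nat_lit 4) (nat_lit 0x4080000000006000c) (Net.cons (nat_lit 8) (nat_lit 0x1400d2003400720020) (Net.cons (nat_lit 16) (nat_lit 0xe4d000008f62) (Net.cons (nat_lit 32) (nat_lit 0x40000000000ad403220) (Net.cons (nat_lit 64) (nat_lit 0x40000001000) Net.nil)))))))))))))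
noncomputable def n4 : Net := (Net.cons (nat_lit 64) (nat_lit 0x40000001000) (Net.cons (nat_lit 32) (nat_lit 0x40000000000ad94a63c) (Net.cons (nat_lit 16) (nat_lit 0x78820000f3d8) (Net.cons (nat_lit 8) (nat_lit 0x14000e00a400450068) (Net.cons (nat_lit 4) (nat_lit 0x10303030e00080008) (Net.cons (nat_lit 2) (nat_lit 0x13321012120301030) (Net.cons (nat_lit 1) (nat_lit 0x4114111441001044) (Net.cons (nat_lit 2) (nat_lit 0x2022020000002020) (Net.cons (nat_lit 4) (nat_lit 0xc0808080600080e) (Net.cons (nat_lit 8) (nat_lit 0x140062001e00080098) (Net.cons (nat_lit 16) (nat_lit 0xe9b60000f110) (Net.cons (nat_lit 32) (nat_lit 0x400000000006a536570) (Net.cons (nat_lit 64) (nat_lit 0x40000001000) Net.nil)))))))))))))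
noncomputable def n5 : Net := (Net.cons (nat_lit 64) (nat_lit 0x20800820) (Net.cons (nat_lit 32) (nat_lit 0x985d0f4c) (Net.cons (nat_lit 16) (nat_lit 0x20800000aa2b00007fea) (Net.cons (nat_lit 8) (nat_lit 0xa000e0002d00190010) (Net.cons (nat_lit 4) (nat_lit 0x8020d010408060c0408) (Net.cons (nat_lit 2) (nat_lit 0x20000202301123320010) (Net.cons (nat_lit 1) (nat_lit 0x11144105444110050) (Net.cons (nat_lit 2) (nat_lit 0x202200200200000) (Net.cons (nat_lit 4) (nat_lit 0x2080c040a000c000a) (Net.cons (nat_lit 8) (nat_lit 0x8000e000a800960014) (Net.cons (nat_lit 16) (nat_lit 0x20800000ec7000007fe0) (Net.cons (nat_lit 32) (nat_lit 0x1961ad4a) (Net.cons (nat_lit 64) (nat_lit 0x20800820) Net.nil)))))))))))))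
noncomputable def n6 : Net := (Net.cons (nat_lit 64) (nat_lit 0x20800820) (Net.cons (nat_lit 32) (nat_lit 0x1961ad4a) (Net.cons (nat_lit 16) (nat_lit 0x208000001f4c00007fa2) (Net.cons (nat_lit 8) (nat_lit 0x80001700e8005c0014) (Net.cons (nat_lit 4) (nat_lit 0x207040f0d0c05040a) (Net.cons (nat_lit 2) (nat_lit 0x20002020103201130020) (Net.cons (nat_lit 1) (nat_lit 0x14110451441450010) (Net.cons (nat_lit 2) (nat_lit 0x20002222000000) (Net.cons (nat_lit 4) (nat_lit 0x8020600020404040008) (Net.cons (nat_lit 8) (nat_lit 0xa0009600a4001e0010) (Net.cons (nat_lit 16) (nat_lit 0x20800000498000007fa2) (Net.cons (nat_lit 32) (nat_lit 0x985d0f4c) (Net.cons (nat_lit 64) (nat_lit 0x20800820) Net.nil)))))))))))))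
noncomputable def n7 : Net := (Net.cons (nat_lit 64) (nat_lit 0xc000000000000000) (Net.cons (nat_lit 32) (nat_lit 0xc00000000000000000000000) (Net.cons (nat_lit 16) (nat_lit 0xc000000080000000ff7e) (Net.cons (nat_lit 8) (nat_lit 0xc0009800b0004d0090) (Net.cons (nat_lit 4) (nat_lit 0xc0e070f010d0f0506) (Net.cons (nat_lit 2) (nat_lit 0x30033110322201012) (Net.cons (nat_lit 1) (nat_lit 0x14141140450144154) (Net.cons (nat_lit 2) (nat_lit 0x20222020000220000) (Net.cons (nat_lit 4) (nat_lit 0xc0c0c060602060a0e) (Net.cons (nat_lit 8) (nat_lit 0xc0008200a0000800da) (Net.cons (nat_lit 16) (nat_lit 0xc000000080000000ffbe) (Net.cons (nat_lit 32) (nat_lit 0xc00000000000000000000000) (Net.cons (nat_lit 64) (nat_lit 0xc000000000000000) Net.nil)))))))))))))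
noncomputable def n8 : Net := (Net.cons (nat_lit 64) (nat_lit 0xc000000000000000) (Net.cons (nat_lit 32) (nat_lit 0xc00000000000000000000000) (Net.cons (nat_lit 16) (nat_lit 0xc000000080000000ffbe) (Net.cons (nat_lit 8) (nat_lit 0xc0008200a000f600da) (Net.cons (nat_lit 4) (nat_lit 0xc0c0309090901050e) (Net.cons (nat_lit 2) (nat_lit 0x10211133022000320) (Net.cons (nat_lit 1) (nat_lit 0x44141141041411154) (Net.cons (nat_lit 2) (nat_lit 0x220002220202) (Net.cons (nat_lit 4) (nat_lit 0xc0e08000e00040a06) (Net.cons (nat_lit 8) (nat_lit 0xc0009800b000a20090) (Net.cons (nat_lit 16) (nat_lit 0xc000000080000000ff7e) (Net.cons (nat_lit 32) (nat_lit 0xc00000000000000000000000) (Net.cons (nat_lit 64) (nat_lit 0xc000000000000000) Net.nil)))))))))))))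
noncomputable def n9 : Net := (Net.cons (nat_lit 64) (nat_lit 0x503000010020211) (Net.cons (nat_lit 32) (nat_lit 0x11000200000000009c519da6) (Net.cons (nat_lit 16) (nat_lit 0x200000001020000daa70000e180) (Net.cons (nat_lit 8) (nat_lit 0x16000000000011009c003800d80055) (Net.cons (nat_lit 4) (nat_lit 0x70000000001000c0a07020308080d) (Net.cons (nat_lit 2) (nat_lit 0x100000000000000010220110002103) (Net.cons (nat_lit 1) (nat_lit 0x100000000000015444410410400051) (Net.cons (nat_lit 2) (nat_lit 0x22200220200000) (Net.cons (nat_lit 4) (nat_lit 0x60000000000000000080a080c0404) (Net.cons (nat_lit 8) (nat_lit 0x14000000000010001000340070003c) (Net.cons (nat_lit 16) (nat_lit 0x200000001020000dcba00003100) (Net.cons (nat_lit 32) (nat_lit 0x1102020000000000fcf1a5e6) (Net.cons (nat_lit 64) (nat_lit 0x503000010020210) Net.nil)))))))))))))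
def B : List (List ℕ) := [[0, 0], [1, 2], [2, 1], [3, 4], [4, 3], [5, 6], [6, 5], [7, 8], [8, 7], [7, 7, 7, 7, 7, 7, 7, 7, 7, 7, 7, 7, 7, 7, 7], [3, 3, 3], [5, 5, 5, 5, 5], [4, 6, 4, 5, 5, 3, 8], [3, 5, 3, 5, 3, 5, 3, 5, 3, 5, 3, 5, 3, 5, 3, 5, 3, 5, 3, 5, 3, 5, 3, 5, 3, 5, 3, 5, 3, 5], [3, 5, 4, 6, 3, 5, 4, 6, 3, 5, 4, 6, 3, 5, 4, 6], [3, 6, 3, 6, 3, 6, 3, 6, 3, 6, 3, 6, 3, 6, 3, 6, 3, 6, 3, 6, 3, 6, 3, 6, 3, 6, 3, 6, 3, 6], [3, 7, 4, 7, 4, 7, 7, 7], [4, 7, 3, 6, 7, 7, 7, 7, 7], [5, 8, 3, 6, 6, 7, 7], [6, 7, 4, 5, 7, 7, 7, 7], [5, 8, 5, 4, 5, 7, 7, 7], [3, 5, 4, 8, 8, 6, 7, 7], [4, 6, 8, 5, 4, 8, 8, 8, 8], [1, 1, 1], [1, 0, 2, 0, 1, 0, 2, 0, 2, 0, 1, 0, 2, 4], [2, 0, 1, 0, 2, 0, 1, 0, 1, 0, 2, 0, 2, 6], [0, 1, 0, 1, 0, 1, 0, 1, 0, 1, 0, 1, 0, 1, 0, 1, 0, 1, 0, 1, 0, 1, 0, 1, 0, 1], [0, 1, 0, 2, 0, 1, 0, 2, 0, 1, 0, 2, 0, 1, 0, 2, 0, 1, 0, 2], [0, 2, 0, 2, 0, 2, 0, 2, 0, 2, 0, 2, 0, 2, 0, 2, 0, 2, 0, 2, 0,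 2, 0, 2, 0, 2], [0, 1, 7, 2, 6, 3, 5], [1, 3, 0, 6, 8, 6, 7, 3], [2, 4, 2, 0, 6, 8, 6, 7], [2, 3, 8, 0, 4, 8, 4, 8, 4], [1, 0, 7, 1, 4, 8, 4, 8, 4], [1, 7, 5, 0, 6, 4, 7, 3, 5], [2, 6, 2, 6, 2, 6], [2, 5, 2, 5, 2, 5], [1, 0, 1, 6, 2, 0, 4], [1, 5, 0, 5, 0, 8, 4, 7, 3], [0, 7, 6, 6, 1, 5, 4, 6, 6], [1, 0, 5, 4, 0, 4, 8, 4, 7, 3], [0, 6, 2, 8, 4, 0, 5, 4, 8], [2, 7, 6, 4, 1, 0, 3, 8, 6, 4], [0, 3, 5, 4, 6, 2, 8, 3, 8, 6], [0, 2, 4, 1, 7, 0, 8, 4, 6, 6], [0, 3, 5, 2, 6, 0, 3, 5, 4, 8]]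
def inv (x : ℕ) : ℕ := [0, 2, 1, 4, 3, 6, 5, 8, 7].getD x 0
noncomputable def nl : List Net := [n0, n1, n2, n3, n4, n5, n6, n7, n8, n9]
theorem nl_ok : allL (Net.ok (nat_lit 128)) nl = true := by decide +kernel
noncomputable def R : Rep := mkRep (nat_lit 7) (nat_lit 128) nl (by decide +kernel) nl_ok
def defs : List (List ℕ) := [[2, 0]]
theorem R_ge : ∀ x, 9 + defs.length ≤ x → R.p x = 1 := fun _ hx => mkRep_ge hx
def ngSt : List (List (ℕ × List ℕ) × List ℕ × ℕ × ℕ) := [([(0, [])], [0], 3, 2), ([(1, [])], [3], 10, 3), ([(2, [])], [4], 1, 3), ([(3, [])], [1], 5, 3), ([(4, [])], [2], 1, 3), ([(4, [])], [5], 3, 5), ([(6, [])], [6], 1, 5), ([(4, [])], [7], 13, 15), ([(8, [])], [8], 1, 15)]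
def ngR : List (List ℕ) := ngRels inv ngSt [[9]]
def xR : List (List ℕ) := [wpow [9] 13]
theorem c0 : relsW R 0 R.lg ((B.drop 0).take 46) = true := by decide +kernel
theorem c1 : defsChk R defs 9 = true := by decide +kernel
theorem c2 : Model.fixW R [] [[0], [1]] = true := by decide +kernel
theorem c3 : Model.growW R [[0], [1]] [0, 1, 0, 1, 0, 1, 0, 1, 0, 1, 0, 1, 0] (Nat.pow 2 0) (ival 0 65) = true := by decide +kernel
theorem c4 : Model.fixW R [0] [[3], [5]] = true := by decide +kernel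
theorem c5 : Model.growW R [[3], [5]] [0, 1, 0, 1, 0, 1, 0, 1, 0, 1, 0] (Nat.pow 2 1) (ival 1 64) = true := by decide +kernel
theorem c6 : Model.fixW R [1, 0] [[7]] = true := by decide +kernel
theorem c7 : Model.growW R [[7]] [0, 0, 0, 0, 0, 0, 0, 0, 0, 0, 0, 0, 0, 0] (Nat.pow 2 2) (ival 2 15) = true := by decide +kernel
theorem c8 : Model.growW R [[0], [1]] [0, 1, 0, 1, 0, 1, 0, 1, 0, 1, 0, 1, 0] (Nat.pow 2 0) (ival 0 65) = true := by decide +kernel
theorem c9 : Model.invW R [[0], [1], [2], [3], [4], [5], [6], [7], [8]] 0 65 = true := by decide +kernel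
theorem c10 : Model.fixW R [0] [[3], [5]] = true := by decide +kernel
theorem c11 : Model.growW R [[3], [5]] [0, 1, 0, 1, 0, 1, 0, 1, 0, 1, 0] (Nat.pow 2 21) (ival 1 64) = true := by decide +kernel
theorem c12 : mapsW R [1] (Nat.pow 2 0) (Nat.pow 2 21) = true := by decide +kernel
theorem c13 : Model.growW R [[1], [3], [5]] [0, 0, 1, 2, 0, 1, 2, 1, 0, 0, 1] (Nat.pow 2 0) (ival 0 65) = true := by decide +kernel
theorem c14 : Model.fixW R [2, 1, 0] ((ngR.drop 0).take 18) = true := by decide +kernel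
theorem c15 : Model.fixW R [2, 1, 0] ((xR.drop 0).take 1) = true := by decide +kernel
end H0.MU34
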